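import Mathlib
import Cfsg.Agent.Lib.FiI.Hur
import Cfsg.Agent.Lib.FiI.U6P

/-!
The perfect double covers do not split over the base (helper80).
-/

set_option autoImplicit false
set_option maxRecDepth 100000

namespace H80.FI

open Subgroup Cfsg H54 H94 H56 H96.F22
open scoped commutatorElement

def c22 : List (List Op × List Op) := [([(0,0,0,0)], []),
([(0,0,1,0),(0,0,1,1),(0,0,0,0)], []),
([(0,0,1,0),(0,0,0,0)], []),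
([(0,0,1,0),(0,0,0,0)], []),
([(0,0,1,0),(0,0,0,0)], []),
([(0,0,1,0),(0,0,0,0)], []),
([(0,0,1,0),(0,0,0,0)], []),
([(0,0,1,0),(0,0,0,0)], []),
([(0,0,0,0)], []),
([(0,0,1,0),(0,0,1,1),(0,0,0,0)], []),
([(0,0,1,0),(0,0,0,0)], []),
([(0,0,1,0),(0,0,0,0)], []),
([(0,0,1,0),(0,0,1,1),(0,0,0,0)], []),
([(0,0,1,0),(0,0,0,0)], []),
([(0,0,1,0),(0,0,0,0)], []),
([(0,0,0,0)], []),
([(0,0,1,0),(0,0,1,1),(0,0,0,0)], []),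
([(0,0,1,0),(0,0,0,0)], []),
([(0,0,1,0),(0,0,0,0)], []),
([(0,0,1,0),(0,0,0,0)], []),
([(0,0,1,0),(0,0,0,0)], []),
([(0,0,0,0)], []),
([(0,0,1,0),(0,0,1,1),(0,0,0,0)], []),
([(0,0,1,0),(0,0,0,0)], []),
([(0,0,1,0),(0,0,0,0)], []),
([(0,0,1,0),(0,0,1,1),(0,0,0,0)], []),
([(0,0,0,0)], []),
([(0,0,1,0),(0,0,0,0)], []),
([(0,0,1,0),(0,0,0,0)], []),
([(0,0,1,0),(0,0,0,0)], []),
([(0,0,0,0)], []),
([(0,0,1,0),(0,0,1,1),(0,0,0,0)], []),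
([(0,0,1,0),(0,0,0,0)], []),
([(0,0,0,0)], []),
([(0,0,1,0),(0,0,1,1),(0,0,0,0)], []),
([(0,0,0,0)], []),
([(0,0,5,0),(0,1,4,0),(0,2,3,0),(0,3,4,8),(0,4,4,0),(0,5,3,0),(0,5,3,0),(0,0,4,15),(0,0,4,0),(0,2,5,28),(0,4,4,0),(2,7,0,0),(0,0,3,0),(0,3,4,10),(0,1,1,0),(2,7,0,0),(0,4,1,1),(0,5,1,1),(0,2,1,0),(2,5,0,0),(2,4,0,0),(0,3,1,1),(0,3,4,8),(0,1,6,14),(0,2,1,0),(0,4,3,0),(2,6,0,0),(0,0,6,21),(0,5,2,2),(0,5,1,0),(0,3,4,9),(0,3,2,2),(0,3,2,1),(0,5,2,0),(0,4,1,1),(2,7,0,0),(0,3,1,0),(2,6,0,0),(0,4,3,4),(0,1,2,2),(0,0,7,25),(0,6,1,0),(0,6,1,0),(0,5,1,0),(0,6,1,1),(0,1,4,15),(2,7,0,0),(0,4,1,1),(0,3,3,3),(0,4,3,4),(0,2,4,9),(2,2,0,0),(0,4,3,1),(0,6,1,0),(0,5,1,0),(0,3,1,1),(0,1,3,0),(0,1,3,2),(2,2,0,0),(0,1,6,17),(0,2,4,11),(0,3,1,0),(0,2,4,12),(2,1,0,0),(0,5,1,1),(0,6,1,0),(2,2,0,0),(2,2,0,0),(0,4,3,3),(0,1,6,51),(0,3,2,2)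,(0,3,3,5),(0,0,6,19),(2,2,0,0),(0,2,1,1),(2,3,0,0),(0,3,3,1),(2,7,0,0),(2,7,0,0),(0,4,2,0),(0,6,1,0),(0,0,2,2),(0,3,2,1),(2,6,0,0),(0,4,2,0),(0,6,1,1),(0,1,2,3),(0,4,1,0),(0,2,1,1),(0,4,2,3),(0,5,2,3),(0,1,1,1),(2,2,0,0),(2,5,0,0),(0,6,1,1),(0,2,3,2),(0,2,2,3),(0,6,1,0),(0,6,1,0),(2,1,0,0),(0,6,1,1),(2,1,0,0),(0,6,1,0),(0,1,5,2),(0,2,3,4),(0,0,4,14),(0,6,1,1),(0,4,3,0),(2,1,0,0),(0,6,1,0),(0,4,2,0),(2,2,0,0),(0,1,6,54),(2,4,0,0),(0,4,2,2),(0,3,3,0),(0,2,1,0),(2,3,0,0),(0,2,4,6),(0,0,1,1),(0,4,2,0),(0,6,1,1),(0,1,5,6),(0,1,3,0),(0,0,7,57),(2,5,0,0),(0,1,4,15),(0,2,2,1),(0,4,2,0),(0,4,3,4),(0,0,2,0),(2,2,0,0),(0,2,5,27),(2,1,0,0),(2,1,0,0),(0,6,1,0),(0,6,1,0),(0,6,1,0),(0,5,1,0),(0,1,3,2),(2,5,0,0),(0,4,2,0),(0,1,5,29),(0,6,1,1),(0,6,1,0),(0,4,1,0),(0,5,1,0),(0,5,2,3),(0,2,5,14),(0,3,1,0),(0,1,3,3),(2,6,0,0),(0,4,1,0),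(0,4,1,1),(2,3,0,0),(0,2,4,9),(0,4,1,0),(0,1,5,10),(0,5,2,3),(0,5,1,0),(0,5,2,3),(0,3,3,4),(0,5,2,3),(0,0,1,1),(0,2,2,2),(0,1,3,2),(0,6,1,0),(0,5,2,2),(2,1,0,0),(0,4,3,3),(2,3,0,0),(0,4,3,6),(0,3,4,11),(0,3,2,2),(0,0,5,31),(2,3,0,0),(0,2,1,1),(0,6,1,0),(0,1,4,15),(0,3,4,2),(0,3,2,2),(0,1,1,0),(0,3,1,1),(0,1,4,11),(0,1,5,14),(0,0,6,62),(0,6,1,0),(2,2,0,0),(0,2,3,4),(0,6,1,1),(0,6,1,1),(0,3,1,1),(0,3,2,1),(0,6,1,0),(0,0,5,9),(0,6,1,0),(0,4,2,1),(0,2,5,10),(2,4,0,0),(0,2,3,4),(0,6,1,0),(0,3,4,3),(0,2,5,23),(0,6,1,1),(0,4,3,3),(0,5,2,2),(2,5,0,0),(0,1,3,4),(2,4,0,0),(0,3,3,6),(0,5,1,0),(0,1,6,61),(0,5,1,0),(0,1,6,49),(0,6,1,1),(2,1,0,0),(0,4,1,0),(0,6,1,1),(0,2,2,1),(0,3,2,1),(0,2,5,3),(0,3,1,0),(2,4,0,0),(2,5,0,0),(0,1,6,5),(0,5,2,2),(0,4,1,0),(0,2,1,0),(0,4,3,2),(0,4,3,0),(2,6,0,0),(0,6,1,0),(0,1,4,8),(0,3,3,6),(0,5,1,0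),(0,5,1,1),(0,6,1,0),(0,6,1,1),(0,0,6,46),(2,5,0,0),(0,5,1,1),(0,3,2,0),(0,5,2,1),(0,3,2,0),(0,5,2,0),(2,4,0,0),(0,0,2,0),(2,5,0,0),(2,7,0,0),(0,0,4,11),(0,5,2,1),(0,2,1,1),(0,0,2,1),(0,3,4,12),(2,2,0,0),(0,2,4,8),(0,1,4,11),(0,3,1,1),(0,0,1,0),(0,6,1,0),(0,6,1,1),(2,2,0,0),(0,6,1,1),(0,0,4,2),(0,4,1,1),(0,1,1,0),(0,2,1,0),(0,4,1,0),(0,6,1,0),(2,1,0,0),(0,1,6,17),(0,6,1,1),(0,2,3,7),(0,5,1,0),(2,7,0,0),(0,2,4,9),(0,5,1,1),(0,3,2,2),(0,3,1,1),(0,4,3,7),(0,2,2,3),(2,1,0,0),(0,6,1,1),(2,6,0,0),(2,7,0,0),(0,4,2,0),(0,0,2,2),(2,6,0,0),(2,4,0,0),(0,3,1,1),(0,0,3,6),(0,2,1,1),(0,5,2,1),(0,2,4,12),(2,6,0,0),(0,3,2,2),(0,2,3,4),(0,4,2,0),(2,7,0,0),(0,4,3,6),(0,5,1,1),(0,2,2,0),(0,4,2,0),(0,1,5,2),(2,7,0,0),(0,4,2,1),(0,2,3,2),(0,4,3,0),(0,1,3,7),(0,6,1,1),(2,3,0,0)], [(0,0,7,0),(0,0,6,18),(0,0,5,0),(0,1,4,5),(0,2,5,8),(0,2,5,8),(0,2,4,10),(0,0,4,4),(0,0,3,4),(0,0,2,2),(0,0,1,0),(0,0,0,0)]),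
([(0,4,1,0),(0,3,1,0),(0,2,1,0),(0,1,1,0),(0,0,1,0),(0,4,1,0),(0,3,1,0),(0,2,1,0),(0,1,1,0),(0,0,1,1),(0,4,1,0),(0,3,1,0),(0,2,1,0),(0,0,1,1),(0,0,0,0)], [])]
def n22a : List Op := [(0,0,5,0),(0,1,4,0),(0,1,3,0),(0,2,2,0),(0,0,4,8),(0,2,4,8),(0,2,3,0),(0,2,3,0),(0,3,2,0),(0,2,2,2),(0,0,4,12),(0,2,3,4),(0,3,2,3),(0,2,2,3),(0,1,2,3),(0,0,2,3)]
def m22a : List Op := [(0,0,3,0),(0,0,2,0),(0,1,4,15),(0,2,2,3),(0,0,3,7),(0,0,2,3),(0,0,1,1)]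
def n22c : List Op := [(0,0,5,0),(0,0,4,0),(0,1,3,0),(0,2,2,0),(0,2,4,8),(0,5,4,0),(0,4,4,8),(0,3,3,4),(0,4,2,0),(0,1,2,2),(0,0,5,24),(0,2,4,8),(0,3,2,3),(0,2,2,3),(0,1,2,3),(0,0,2,3)]
def m22c : List Op := [(0,0,3,0),(0,0,2,0),(0,1,4,15),(0,2,2,3),(0,0,3,7),(0,0,2,3),(0,0,1,1)]
def c23 : List (List Op × List Op) := [([(0,0,0,0)], []),
([(0,0,1,0),(0,0,1,1),(0,0,0,0)], []),
([(0,0,1,0),(0,0,0,0)], []),
([(0,0,1,0),(0,0,0,0)], []),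
([(0,0,1,0),(0,0,0,0)], []),
([(0,0,1,0),(0,0,0,0)], []),
([(0,0,1,0),(0,0,0,0)], []),
([(0,0,1,0),(0,0,0,0)], []),
([(0,0,1,0),(0,0,0,0)], []),
([(0,0,0,0)], []),
([(0,0,1,0),(0,0,1,1),(0,0,0,0)], []),
([(0,0,1,0),(0,0,0,0)], []),
([(0,0,1,0),(0,0,0,0)], []),
([(0,0,1,0),(0,0,0,0)], []),
([(0,0,1,0),(0,0,0,0)], []),
([(0,0,1,0),(0,0,0,0)], []),
([(0,0,1,0),(0,0,0,0)], []),
([(0,0,0,0)], []),
([(0,0,1,0),(0,0,1,1),(0,0,0,0)], []),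
([(0,0,1,0),(0,0,0,0)], []),
([(0,0,1,0),(0,0,0,0)], []),
([(0,0,1,0),(0,0,0,0)], []),
([(0,0,1,0),(0,0,0,0)], []),
([(0,0,1,0),(0,0,0,0)], []),
([(0,0,0,0)], []),
([(0,0,1,0),(0,0,1,1),(0,0,0,0)], []),
([(0,0,1,0),(0,0,0,0)], []),
([(0,0,1,0),(0,0,0,0)], []),
([(0,0,1,0),(0,0,1,1),(0,0,0,0)], []),
([(0,0,1,0),(0,0,0,0)], []),
([(0,0,0,0)], []),
([(0,0,1,0),(0,0,1,1),(0,0,0,0)], []),
([(0,0,1,0),(0,0,0,0)], []),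
([(0,0,1,0),(0,0,0,0)], []),
([(0,0,1,0),(0,0,0,0)], []),
([(0,0,0,0)], []),
([(0,0,1,0),(0,0,1,1),(0,0,0,0)], []),
([(0,0,1,0),(0,0,0,0)], []),
([(0,0,1,0),(0,0,0,0)], []),
([(0,0,0,0)], []),
([(0,0,1,0),(0,0,0,0)], []),
([(0,0,1,0),(0,0,0,0)], []),
([(0,0,0,0)], []),
([(0,0,1,0),(0,0,1,1),(0,0,0,0)], []),
([(0,0,0,0)], []),
([(0,0,2,0),(0,4,2,0),(0,8,2,0),(0,12,2,0),(0,16,2,0),(0,20,2,0),(0,24,2,0),(0,28,2,0),(0,32,2,0),(0,36,2,0),(0,40,2,0),(0,44,2,0),(0,48,2,0),(0,52,2,0),(0,56,2,0),(0,1,5,0),(0,2,4,0),(0,3,3,0),(0,0,5,0),(0,5,5,0),(0,6,4,0),(0,7,3,0),(0,1,4,0),(0,2,3,0),(0,7,5,0),(0,8,4,0),(0,9,3,0),(0,3,4,8),(0,4,4,0),(0,5,4,0),(0,8,4,0),(0,8,4,0),(0,9,3,0),(0,5,3,0),(0,0,4,15),(0,0,4,0),(0,7,5,0),(0,8,4,0),(0,9,3,0),(0,2,5,28),(0,4,4,0),(2,3,0,0),(0,0,5,28),(2,6,0,0),(0,6,1,0),(0,4,3,4),(2,1,0,0),(0,3,1,0),(0,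3,1,1),(0,2,3,1),(0,3,1,0),(0,6,1,1),(0,5,1,0),(0,1,5,18),(0,3,1,1),(0,6,1,0),(0,6,1,1),(0,4,1,0),(0,4,2,0),(0,1,3,4),(0,3,4,2),(2,4,0,0),(0,6,1,1),(0,6,1,1),(0,6,1,0),(0,1,2,2),(0,3,1,0),(2,2,0,0),(0,2,2,2),(0,4,1,1),(2,2,0,0),(2,6,0,0),(0,5,2,3),(0,3,3,6),(0,4,3,3),(0,1,4,0),(2,3,0,0),(0,6,1,0),(0,6,1,0),(0,4,1,0),(0,0,2,2),(0,6,1,0),(2,2,0,0),(0,4,2,0),(0,6,1,0),(0,6,1,0),(0,0,4,2),(0,6,1,0),(0,1,5,22),(2,2,0,0),(0,6,1,0),(0,5,2,3),(0,5,2,2),(0,2,4,14),(0,1,4,8),(0,6,1,0),(0,4,1,0),(2,1,0,0),(0,3,4,9),(0,6,1,0),(0,4,3,1),(0,6,1,1),(0,0,4,10),(0,6,1,1),(0,2,3,6),(2,7,0,0),(0,6,1,1),(2,7,0,0),(0,2,4,11),(0,5,2,3),(2,4,0,0),(0,3,4,3),(2,2,0,0),(2,3,0,0),(0,5,2,2),(0,3,4,10),(0,5,2,1),(0,3,3,0),(0,1,6,6),(0,1,2,1),(0,5,2,3),(0,0,4,5),(0,2,1,0),(0,1,4,9),(0,0,6,40),(0,1,1,0),(0,3,1,0),(0,4,3,6),(0,6,1,0),(0,4,1,0),(0,2,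1,1),(0,1,4,6),(0,5,1,1),(2,2,0,0),(0,5,1,1),(0,5,2,3),(2,2,0,0),(2,3,0,0),(0,0,2,2),(2,3,0,0),(0,1,3,1),(2,3,0,0),(0,1,6,19),(0,3,2,2),(2,1,0,0),(0,3,3,7),(0,3,1,1),(0,1,4,2),(0,2,2,0),(0,3,3,2),(0,4,3,5),(0,1,5,4),(0,6,1,1),(0,2,5,28),(0,2,4,15),(2,6,0,0),(0,1,1,0),(0,2,5,22),(0,6,1,1),(0,0,2,2),(0,2,3,3),(0,6,1,1),(0,2,2,0),(2,4,0,0),(0,4,3,5),(2,1,0,0),(2,4,0,0),(0,6,1,1),(0,3,2,0),(0,2,2,0),(2,4,0,0),(0,2,4,12),(0,2,1,1),(0,2,3,6),(0,4,3,7),(0,2,2,1),(0,5,1,1),(2,4,0,0),(2,4,0,0),(0,0,2,2),(0,4,2,1),(0,3,2,3),(0,3,3,1),(0,6,1,0),(0,4,2,0),(0,6,1,1),(0,6,1,1),(0,3,2,2),(2,5,0,0),(0,3,2,0),(2,5,0,0),(0,3,4,4),(0,4,2,2),(0,0,2,1),(0,6,1,1),(0,5,1,0),(0,6,1,1),(0,2,4,14),(0,6,1,1),(2,5,0,0),(0,4,1,0),(0,4,2,1),(2,5,0,0),(0,5,1,0),(0,3,3,5),(0,1,5,30),(0,5,1,1),(2,2,0,0),(2,1,0,0),(0,2,4,3),(0,1,1,1),(0,1,1,1),(0,2,3,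4),(0,4,1,1),(0,5,1,1),(0,5,1,0),(0,3,1,0),(0,4,2,0),(0,2,2,1),(0,3,3,0),(0,3,4,9),(0,5,1,0),(2,4,0,0),(0,2,1,1),(0,2,1,1),(0,1,6,41),(0,6,1,0),(0,2,3,0),(2,2,0,0),(0,1,2,1),(2,3,0,0),(2,7,0,0),(0,3,1,1),(2,6,0,0),(2,6,0,0),(2,6,0,0),(0,6,1,0),(0,4,3,6),(0,5,2,2),(0,3,4,7),(0,4,1,1),(0,6,1,0),(0,1,1,0),(0,5,2,3),(0,3,2,3),(0,4,3,1),(0,5,1,1),(0,5,1,0),(0,5,1,1),(0,3,4,12),(2,5,0,0),(0,1,5,19),(0,5,2,0),(0,2,5,31),(0,5,1,1),(0,0,3,0),(2,5,0,0),(0,1,2,2),(0,4,3,0),(2,7,0,0),(0,3,1,1),(0,5,1,0),(0,5,1,0),(0,0,3,0),(2,7,0,0),(0,4,2,0),(0,1,2,1),(2,5,0,0),(0,6,1,1),(2,7,0,0),(0,5,1,1),(0,0,3,0),(0,4,1,1),(0,3,3,3),(0,4,2,3),(0,4,2,2),(2,5,0,0),(0,6,1,1),(0,2,1,1),(0,5,1,0),(0,5,2,2),(0,0,5,9),(0,1,4,8),(0,3,2,1),(2,3,0,0),(0,2,1,1),(0,0,2,0),(0,2,4,6),(0,4,3,3),(0,3,2,1),(0,5,2,2),(0,1,2,3),(0,0,1,1),(0,0,4,0),(0,6,1,0),(0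,1,6,42),(0,5,2,2),(0,5,1,1),(0,6,1,0),(0,2,1,1),(0,4,1,1),(0,4,3,4),(0,0,4,1),(0,4,1,0),(0,5,2,2),(0,3,2,2),(2,4,0,0),(0,6,1,1),(0,4,3,7),(0,0,3,4),(0,6,1,0),(0,4,3,3),(2,3,0,0),(0,6,1,1),(2,4,0,0),(0,6,1,0),(0,0,5,11),(2,6,0,0),(0,3,2,1),(2,4,0,0),(0,3,4,0),(0,1,5,4),(2,4,0,0),(0,6,1,0),(0,3,4,0),(0,0,7,5),(0,3,2,3),(0,5,1,1),(0,2,1,1),(2,6,0,0),(2,2,0,0),(0,5,2,2),(0,4,3,2),(0,3,1,1),(2,6,0,0),(0,6,1,1),(0,3,3,6),(0,0,4,0),(0,0,3,1),(0,1,2,3),(2,1,0,0)], [(0,0,7,0),(0,0,6,9),(0,1,5,0),(0,1,4,6),(0,4,5,0),(0,3,5,4),(0,0,5,0),(0,0,4,0),(0,0,3,4),(0,0,2,0),(0,0,1,1),(0,0,0,0)])]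
def r23a : List Op := [(0,0,6,0),(0,1,5,0),(0,2,4,0),(0,3,3,0),(0,3,4,8),(0,4,4,0),(0,2,4,0),(0,4,3,0),(0,3,3,4),(0,0,4,0),(0,3,3,0),(0,4,5,0),(0,5,5,0),(0,6,4,0),(0,2,4,8),(0,6,4,0),(0,3,4,2),(0,1,4,8),(0,4,3,4),(0,4,4,0),(0,5,4,0),(0,0,4,8),(0,3,3,4),(0,3,4,8),(0,3,3,0),(0,3,3,4),(0,4,3,0),(0,2,3,4),(1,2996,0,0),(1,1945,0,0),(1,481,0,0)]
def r23b : List Op := [(0,0,6,0),(0,1,5,0),(0,2,4,0),(0,4,5,16),(0,3,4,4),(0,4,4,0),(0,2,4,0),(0,4,4,12),(0,3,2,2),(0,5,5,0),(0,4,5,24),(0,5,4,0),(0,6,3,0),(0,6,3,4),(0,6,4,8),(0,5,3,1),(0,6,3,0),(0,6,5,24),(0,5,3,1),(0,8,5,0),(0,7,5,24),(0,6,3,2),(0,5,1,1),(0,1,5,0),(0,5,6,60),(0,0,6,56),(0,0,6,48),(2,8,0,0),(0,0,7,3),(1,2846,0,0),(1,571,0,0),(1,628,0,0)]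
def n23 : List Op := [(0,4,3,0),(0,1,4,0),(0,1,3,0),(0,2,4,0),(0,3,2,3),(0,2,2,3),(0,1,2,3),(0,0,2,3)]
def m23 : List Op := [(0,0,3,0),(0,0,2,0),(0,1,4,15),(0,2,2,3),(0,0,3,7),(0,0,2,3),(0,0,1,1)]

noncomputable def vb23 (i : ℕ) : Bool := Nat.blt i 3510
noncomputable def vb22 (i : ℕ) : Bool := band (Nat.blt i 3510) (nbr [0] [0] i)
def lab22 : List ℕ := [6, 16, 40, 88, 154, 43, 92, 472]

/-- all relators of a list have certificates -/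
noncomputable def chkAll (vb : ℕ → Bool) (labs : List ℕ) (rels : List (List ℕ)) :
    List (List Op × List Op) → Bool :=
  List.rec (motive := fun _ => List (List Op × List Op) → Bool) (fun _ => true)
    (fun R _ ih cs => forceL (R.map (nth labs)) fun W => band (band (allL vb W) (eqW W []))
      (band (chk1 vb W (cs.headD ([], []))) (ih cs.tail))) rels

theorem chkAll_spec {vb : ℕ → Bool} {labs : List ℕ} : ∀ {rels : List (List ℕ)} {cs : List (List Op × List Op)},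
    chkAll vb labs rels cs = true → ∀ R ∈ rels, allL vb (R.map (nth labs)) = true ∧ eqW (R.map (nth labs)) [] = true ∧
      ∃ c, chk1 vb (R.map (nth labs)) c = true
  | [], _, _ => by simp
  | R :: t, cs, h => by
    have h' : forceL (R.map (nth labs)) (fun W => band (band (allL vb W) (eqW W []))
      (band (chk1 vb W (cs.headD ([], []))) (chkAll vb labs t cs.tail))) = true := h
    simp only [forceL_eq, band_eq_true] at h'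
    exact List.forall_mem_cons.2 ⟨⟨h'.1.1, h'.1.2, _, h'.2.1⟩, chkAll_spec h'.2.2⟩

theorem c22_ok : chkAll vb22 lab22 (U6P.rels.take 38) c22 = true := by decide +kernel
theorem c23_ok : chkAll vb23 gens9 (H18.Y332a.rels.take 46) c23 = true := by decide +kernel

theorem top_le {G : Type*} [Group G] {d : G} (hq : Group.IsPerfect (centralizer ({d} : Set G))) {K : Subgroup G}
    (h : ∀ g, Commute g d → ∃ k ∈ K, Commute k d ∧ (g = k ∨ g = k * d)) : centralizer {d} ≤ K := by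
  have : commutator (centralizer ({d} : Set G)) ≤ K.subgroupOf _ := commutator_le.2 fun x _ y _ => by
    have cx : Commute (x : G) d := mem_centralizer_singleton_iff.1 x.2
    have cy : Commute (y : G) d := mem_centralizer_singleton_iff.1 y.2
    have key : ∀ {u v : G}, Commute v d → ⁅u * d, v⁆ = ⁅u, v⁆ ∧ ⁅v, u * d⁆ = ⁅v, u⁆ := fun {u v} c => by
      have : ⁅u * d, v⁆ = ⁅u, v⁆ := by
        rw [commutatorElement_def, commutatorElement_def, mul_assoc u, ← c.eq]; group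
      exact ⟨this, by rw [← commutatorElement_inv, this, commutatorElement_inv]⟩
    obtain ⟨k, hk, ck, e⟩ := h x cx
    obtain ⟨l, hl, -, e'⟩ := h y cy
    show ⁅(x : G), (y : G)⁆ ∈ K
    have e1 : ⁅(x : G), (y : G)⁆ = ⁅k, (y : G)⁆ := by
      rcases e with e | e <;> rw [e]
      exact (key cy).1
    have e2 : ⁅k, (y : G)⁆ = ⁅k, l⁆ := by
      rcases e' with e' | e' <;> rw [e']
      exact (key ck).2
    rw [e1, e2]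
    exact mul_mem (mul_mem (mul_mem hk hl) (inv_mem hk)) (inv_mem hl)
  intro g hg
  exact this (x := ⟨g, hg⟩) (hq.commutator_eq_top ▸ mem_top _)

variable {G F : Type*} [Group G] [Group F] {E : Set F} (M : Model22 F E) {R : Subgroup (G × F)} {d : G} {a : F}
  (C : Corr R d a) {ℓ : F → G} (L : Lift R E a ℓ) {vb : ℕ → Bool}
  (hv : ∀ i, vb i = true ↔ i < 3510 ∧ M.x i ∈ Dc E a)

include L hv in
theorem hw : HW (fun i => ℓ (M.x i)) vb := by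
  have k : ∀ {j i}, vb j = true → vb i = true → M.x j * M.x i * (M.x j)⁻¹ = M.x (ev j i) := fun hj hi => by
    rw [x_inv M ((hv _).1 hj).1, x_ev M ((hv _).1 hj).1 ((hv _).1 hi).1]
  refine ⟨fun i hi => L.sq _ ((hv i).1 hi).2, fun j i hj hi => (hv _).2 ⟨ev_lt M ((hv _).1 hj).1 ((hv _).1 hi).1,
    k hj hi ▸ Dc_conj (tc M).toT3 ((hv _).1 hj).2.2.2.symm ((hv _).1 hi).2⟩, fun j i hj hi => ?_⟩
  rw [← k hj hi, ← L.conj (L.mem _ ((hv _).1 hj).2) _ ((hv _).1 hi).2, inv_eq_of_mul_self (L.sq _ ((hv _).1 hj).2)]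

include C L hv in
theorem hc (i : ℕ) (hi : vb i = true) : Commute d (ℓ (M.x i)) := (C.c1 (L.mem _ ((hv i).1 hi).2)).symm

include L hv in
theorem pv_mem : ∀ W : List ℕ, (∀ i ∈ W, vb i = true) → (pv (fun i => ℓ (M.x i)) W, w M W) ∈ R
  | [], _ => Rone R
  | i :: t, h => by
    rw [List.forall_mem_cons] at h
    rw [pv_cons, w_cons]
    exact Rmul (L.mem _ ((hv i).1 h.1).2) (pv_mem t h.2)

include hv in
theorem vG_of {W : List ℕ} (h : allL vb W = true) : vG W = true :=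
  (vG_iff _).2 fun i hi => ((hv i).1 ((allL_iff _ _).1 h i hi)).1

include C L hv in
theorem pv_val {W : List ℕ} (h : allL vb W = true) (e : w M W = 1 ∨ w M W = a) :
    pv (fun i => ℓ (M.x i)) W = 1 ∨ pv (fun i => ℓ (M.x i)) W = d := by
  have m := pv_mem M L hv W ((allL_iff _ _).1 h)
  rcases e with e | e <;> rw [e] at m
  · exact (C.k1 _).1 m
  · exact (C.k1 _).1 (by simpa using Rmul m (Rinv C.a1))

include C L hv in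
theorem pv_val1 {W : List ℕ} (h : allL vb W = true) (e : eqW W [] = true) :
    pv (fun i => ℓ (M.x i)) W = 1 ∨ pv (fun i => ℓ (M.x i)) W = d :=
  pv_val M C L hv h (Or.inl (w_eq M (W' := []) (vG_of M hv h) rfl e))

include C L hv in
theorem rel_of {labs : List ℕ} {rels : List (List ℕ)} {cs : List (List Op × List Op)}
    (h : chkAll vb labs rels cs = true) : ∀ W ∈ rels, pv (fun i => ℓ (M.x i)) (W.map (nth labs)) = 1 := fun W hW => by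
  obtain ⟨h1, h2, c, h3⟩ := chkAll_spec h W hW
  exact (hw M L hv).of_chk1 C.dsq (hc M C L hv) h1 (pv_val1 M C L hv h1 h2) h3

noncomputable def chkNS (vb : ℕ → Bool) (W : List ℕ) (o o' : List Op) (a₀ u v p₁ p₂ p₃ p₄ p₅ p₆ : ℕ) : Bool :=
  band (band (band (allL vb W) (eqL (run vb o W) [p₁, p₂, p₃, p₄, p₅, p₆]))
    (band (allL vb [u, v, p₃, p₅, u, v, p₃, p₅, p₂, p₁])
      (eqL (run vb o' [u, v, p₃, p₅, u, v, p₃, p₅, p₂, p₁]) [p₁, p₂, p₃, p₄, p₅, p₆])))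
    (band (band (band (okP [a₀, p₁, p₂, p₃]) (okP [a₀, p₄, p₅, p₆])) (okP [p₁, p₂, p₃, p₄, p₅, p₆]))
      (band (Nat.beq (fixCnt [p₁, p₂, p₃, a₀]) 54) (Nat.beq (fixCnt [p₄, p₅, p₆, a₀]) 54)))

include C L hv in
theorem ns_of {n : ℕ} (S : Sys E a n) {W : List ℕ} {o o' : List Op} {a₀ u v p₁ p₂ p₃ p₄ p₅ p₆ : ℕ}
    (ha : a = 1 ∨ a = M.x a₀) (h : chkNS vb W o o' a₀ u v p₁ p₂ p₃ p₄ p₅ p₆ = true)
    (e : pv (fun i => ℓ (M.x i)) W = d) : NS E a ℓ d := by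
  simp only [chkNS, band_eq_true, Nat.beq_eq] at h
  obtain ⟨⟨⟨h1, h2⟩, h3, h4⟩, ⟨⟨h5, h6⟩, h7⟩, h8, h9⟩ := h
  have H := hw M L hv
  have e1 := (H.run_eq (hc M C L hv) h1 h2).2 e
  have e2 := (H.run_eq (hc M C L hv) h3 h4).1 e1
  have g1 := gen3_of M ha h5 h8
  have g2 := gen3_of M ha h6 h9
  simp only [pv_cons, pv_nil, mul_one] at e1 e2
  refine ⟨_, _, _, _, _, _, g1, g2, ?_, ?_, ℓ (M.x u) * ℓ (M.x v) * ℓ (M.x p₃) * ℓ (M.x p₅), ?_⟩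
  · have := (okP_spec M h7).2.2
    simp only [List.forall_mem_cons, List.not_mem_nil, false_imp_iff, implies_true, and_true] at this ⊢
    tauto
  · have t := C.tri_sq S L g2.1
    rw [(C.c1 (Rmul (Rmul (L.mem _ g2.1.p12.m1) (L.mem _ g2.1.p12.m2)) (L.mem _ g2.1.p13.m2))).eq, ← e1]
    simp only [mul_assoc] at t ⊢
    rw [t, mul_one]
  · rw [(C.c1 (Rmul (L.mem _ g1.1.p12.m1) (L.mem _ g1.1.p12.m2))).eq, ← e2]
    simp only [mul_assoc, mul_self_cancel (L.sq _ g1.1.p12.m1), L.sq _ g1.1.p12.m2, mul_one]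

include C L hv in
theorem cent_le (hq : Group.IsPerfect (centralizer ({d} : Set G))) {labs : List ℕ}
    (hl : ∀ x < labs.length, vb (nth labs x) = true)
    (hg : ∀ f, Commute f a → f ∈ closure {z | ∃ x < labs.length, M.x (nth labs x) = z}) :
    centralizer {d} ≤ H18.TC.gsub (gn (fun i => ℓ (M.x i)) labs) (List.range labs.length) := by
  refine top_le hq fun g c => ?_
  obtain ⟨f, m⟩ := C.tot g c
  have : ∃ k ∈ H18.TC.gsub (gn (fun i => ℓ (M.x i)) labs) (List.range labs.length), (k, f) ∈ R := by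
    refine closure_induction (p := fun f _ => ∃ k ∈ _, (k, f) ∈ R) ?_ ⟨1, one_mem _, Rone R⟩
      (fun _ _ _ _ ⟨k, h, m⟩ ⟨k', h', m'⟩ => ⟨_, mul_mem h h', Rmul m m'⟩)
      (fun _ _ ⟨k, h, m⟩ => ⟨_, inv_mem h, Rinv m⟩) (hg f (C.c2 m))
    rintro _ ⟨x, hx, rfl⟩
    refine ⟨_, H18.TC.mem_gsub _ (List.mem_range.2 hx), ?_⟩
    rw [gn, if_pos hx]
    exact L.mem _ ((hv _).1 (hl x hx)).2
  obtain ⟨k, hk, m'⟩ := this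
  exact ⟨k, hk, C.c1 m', C.eq1 m' m⟩

include C hv in
theorem normalise {n : ℕ} (S : Sys E a n) {W : List ℕ} (h : allL vb W = true) (e : eqW W [] = true)
    (ho : Odd W.length) : ∃ ℓ, Lift R E a ℓ ∧ pv (fun i => ℓ (M.x i)) W = 1 := by
  obtain ⟨ℓ, L⟩ := C.exists_lift S
  rcases pv_val1 M C L hv h e with e1 | e1
  · exact ⟨ℓ, L, e1⟩
  · refine ⟨_, L.mul_d C, ?_⟩
    obtain ⟨k, hk⟩ := ho
    rw [pv_mul (hc M C L hv) W ((allL_iff _ _).1 h), e1, hk, ← pow_succ', add_assoc, pow_add, pow_mul, sq d, C.dsq,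
      one_pow, one_mul]

theorem hv23 (i : ℕ) : vb23 i = true ↔ i < 3510 ∧ M.x i ∈ Dc E 1 := by
  rw [vb23, Nat.blt_eq, Dc_one M]
  exact ⟨fun h => ⟨h, M.x_mem h⟩, fun h => h.1⟩

theorem hv22 (i : ℕ) : vb22 i = true ↔ i < 3510 ∧ M.x i ∈ Dc E (M.x 0) := by
  rw [vb22, band_eq_true, Nat.blt_eq]
  exact and_congr_right fun h => (mem_Dc_iff M (by norm_num) h).symm

def wr1 : List ℕ := H18.TC.rep 9 [0, 1, 2, 3, 4, 5, 7]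
def wr2 : List ℕ := H18.TC.rep 9 [1, 2, 3, 4, 5, 6, 7]

include M in
theorem ns23 (C : Corr R d (1 : F)) (hq : Group.IsPerfect (centralizer ({d} : Set G))) :
    ∃ ℓ, Lift R E 1 ℓ ∧ NS E 1 ℓ d := by
  have hv := hv23 M
  obtain ⟨ℓ, L, e1⟩ := normalise M C hv (sys23 M) (W := wr1.map (nth gens9)) (by decide +kernel) (by decide +kernel)
    (by decide +kernel)
  have H := hw M L hv
  refine ⟨ℓ, L, ?_⟩
  rcases pv_val1 M C L hv (W := wr2.map (nth gens9)) (by decide +kernel) (by decide +kernel) with e2 | e2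
  · exfalso
    have hl : ∀ x < gens9.length, vb23 (nth gens9 x) = true := by decide +kernel
    have sat := sat_gn H hl (rels := H18.Fi22.R22) (by decide +kernel) fun W hW => by
      rw [show H18.Fi22.R22 = H18.Y332a.rels.take 46 ++ [wr1, wr2] by decide +kernel] at hW
      simp only [List.mem_append, List.mem_cons, List.not_mem_nil, or_false] at hW
      rcases hW with hW | rfl | rfl
      exacts [rel_of M C L hv c23_ok W hW, e1, e2]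
    obtain ⟨φ, hφ⟩ := H18.Fi22.exists_hom sat
    have k := cent_le M C L hv hq hl fun f _ => by
      refine Subgroup.closure_mono ?_ (M.gen.ge (mem_top f))
      rintro _ ⟨k, hk, rfl⟩
      exact ⟨k, hk, rfl⟩
    have k2 : H18.TC.gsub (gn (fun i => ℓ (M.x i)) gens9) (List.range gens9.length) ≤ φ.range := by
      refine (closure_le _).2 ?_
      rintro _ ⟨x, hx, rfl⟩
      exact ⟨_, hφ x (List.mem_range.1 hx)⟩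
    obtain ⟨t, ht⟩ := k2 (k (mem_centralizer_singleton_iff.2 rfl))
    have k3 : (⊤ : Subgroup Spor.Fi22) ≤ (centralizer {d}).comap φ := by
      rw [← H18.Fi22.top]
      refine (closure_le _).2 ?_
      rintro _ ⟨x, hx, rfl⟩
      have hx' : x < gens9.length := List.mem_range.1 hx
      show φ _ ∈ centralizer {d}
      rw [hφ x hx', gn, if_pos hx']
      exact mem_centralizer_singleton_iff.2 (hc M C L hv _ (hl x hx')).symm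
    have := simple H18.Fi22.model
    rcases IsSimpleGroup.eq_bot_or_eq_top_of_normal φ.ker inferInstance with h | h
    · have : t ∈ center Spor.Fi22 := mem_center_iff.2 fun u => (MonoidHom.ker_eq_bot_iff φ).1 h (by
        rw [map_mul, map_mul, ht]; exact mem_centralizer_singleton_iff.1 (k3 (mem_top u)))
      rw [H18.Fi22.model.center, mem_bot] at this
      exact C.dne (by rw [← ht, this, map_one])
    · exact C.dne (ht.symm.trans (show t ∈ φ.ker from h ▸ mem_top t))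
  · have a1 := (H.run_eq (fun _ _ => Commute.one_left _) (ops := r23a)
      (l' := [3237, 1147, 2351, 3233, 358, 1325, 2790]) (by decide +kernel) (by decide +kernel)).2 e1
    have a2 := (H.run_eq (hc M C L hv) (ops := r23b)
      (l' := [1147, 358, 2351, 238, 2348, 1240, 1325]) (by decide +kernel) (by decide +kernel)).2 e2
    refine ns_of M C L hv (sys23 M) (W := [3237, 1147, 2351, 3233, 358, 1325, 2790] ++ [1147, 358, 2351, 238, 2348, 1240, 1325])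
      (o := n23) (o' := m23) (a₀ := 15) (u := 4) (v := 252) (p₁ := 2348)
      (p₂ := 1240) (p₃ := 3237) (p₄ := 3233) (p₅ := 2790) (p₆ := 238) (Or.inl rfl) ?_
      (by rw [pv_append, a1, a2, one_mul])
    decide +kernel

theorem gen22_le {f : F} (c : Commute f (M.x 0)) : f ∈ closure {z | ∃ x < lab22.length, M.x (nth lab22 x) = z} := by
  have : f ∈ closure (Dc E (M.x 0)) := (closure_Dc M (M.x_mem (by norm_num))).ge (mem_centralizer_singleton_iff.2 c)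
  refine (closure_le _).2 (fun y hy => ?_) this
  obtain ⟨v, hv, rfl⟩ := (u6Loc_pi0 M).surj y hy
  obtain ⟨x, hx, rfl⟩ := exists_vec v
  have g : ∀ k, 2 ≤ k → k < 10 → M.x (T22.idx k) ∈ closure {z | ∃ x < lab22.length, M.x (nth lab22 x) = z} :=
    fun k h2 hk => subset_closure ⟨k - 2, by show _ < 8; omega, by interval_cases k <;> rfl⟩
  rw [pi0_vec M hx]
  refine (T22.orb_ind (P := fun x => (x < 4096 ∧ Sing (vec x)) ∧ M.x (T23.lab x) ∈ closure {z | ∃ x < lab22.length, M.x (nth lab22 x) = z})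
    ⟨⟨by norm_num, sing_cd (k := 2) le_rfl (by norm_num)⟩, ?_⟩ ?_ hx ((singC_iff x).2 hv)).2
  · exact (show T23.lab 3 = T22.idx 2 from lab_cd (k := 2) le_rfl (by norm_num)) ▸ g 2 le_rfl (by norm_num)
  · rintro k h2 hk x ⟨⟨h3, h4⟩, h5⟩
    obtain ⟨b1, -, -, -, -, -, b2⟩ := lab_spec h3 h4
    refine ⟨⟨(b2 k hk h2).1, vec_tvC _ _ ▸ (sing_cd h2 hk).tvec h4⟩, ?_⟩
    rw [← (b2 k hk h2).2, ← x_ev M (by interval_cases k <;> decide +kernel) b1]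
    exact mul_mem (mul_mem (g k h2 hk) h5) (g k h2 hk)

theorem ns22 [Finite G] (C : Corr R d (M.x 0)) (hq : Group.IsPerfect (centralizer ({d} : Set G))) :
    ∃ ℓ, Lift R E (M.x 0) ℓ ∧ NS E (M.x 0) ℓ d := by
  have hv := hv22 M
  have ha := M.x_mem (j := 0) (by norm_num)
  have S := sys22 M ha
  obtain ⟨ℓ, L, e1⟩ := normalise M C hv S (W := (H18.TC.rep 9 [0, 1, 2, 3, 4, 5, 6]).map (nth lab22))
    (by decide +kernel) (by decide +kernel) (by decide +kernel)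
  refine ⟨ℓ, L, ?_⟩
  rcases pv_val1 M C L hv (W := (H18.TC.rep 5 [2, 3, 4, 7, 6, 5]).map (nth lab22)) (by decide +kernel)
    (by decide +kernel) with e2 | e2
  swap
  · exact ns_of M C L hv S (o := n22a) (o' := m22a) (u := 244) (v := 381) (p₁ := 472) (p₂ := 43) (p₃ := 427)
      (p₄ := 424) (p₅ := 40) (p₆ := 154) (Or.inr rfl) (by decide +kernel) e2
  rcases pv_val M C L hv (W := (H18.TC.rep 5 [0, 5, 1, 2, 3, 7]).map (nth lab22)) (by decide +kernel)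
    (Or.inr ((w_eq M (W' := [0]) (by decide +kernel) (by decide +kernel) (by decide +kernel)).trans (w_one M 0)))
    with e3 | e3
  swap
  · exact ns_of M C L hv S (o := n22c) (o' := m22c) (u := 232) (v := 371) (p₁ := 291) (p₂ := 88) (p₃ := 112)
      (p₄ := 95) (p₅ := 6) (p₆ := 43) (Or.inr rfl) (by decide +kernel) e3
  exfalso
  have hl : ∀ x < lab22.length, vb22 (nth lab22 x) = true := by decide +kernel
  have sat := sat_gn (hw M L hv) hl (rels := U6P.rels) (by decide +kernel) fun W hW => by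
    rw [show U6P.rels = U6P.rels.take 38 ++ [H18.TC.rep 9 [0, 1, 2, 3, 4, 5, 6], H18.TC.rep 5 [2, 3, 4, 7, 6, 5],
      H18.TC.rep 5 [0, 5, 1, 2, 3, 7]] by decide +kernel] at hW
    simp only [List.mem_append, List.mem_cons, List.not_mem_nil, or_false] at hW
    rcases hW with hW | rfl | rfl | rfl
    exacts [rel_of M C L hv c22_ok W hW, e1, e2, e3]
  have b := (U6P.bd sat).2
  rw [relIndex_bot_left] at b
  have k := cent_le M C L hv hq hl fun f c => gen22_le M c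
  have := M.finite
  have c1 := C.card_pre S.asq (B := centralizer {M.x 0}) (mem_centralizer_singleton_iff.2 rfl)
    fun f hf => mem_centralizer_singleton_iff.1 hf
  have c2 : pre R (centralizer {M.x 0}) ≤ centralizer {d} := fun h hh => by
    obtain ⟨f, -, m⟩ := mem_pre.1 hh
    exact mem_centralizer_singleton_iff.2 (C.c1 m)
  have c3 := card_le_of_le (c2.trans k)
  rw [← closure_Dc M ha, (std22 M).card_closure, Nat.card_zpowers, (tc M).ord _ ha] at c1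
  rw [← closure_Dc M ha] at c3
  change _ ≤ Nat.card (H18.TC.gsub _ (List.range 8)) at c3
  omega

theorem loc22 [Finite G] (hd : orderOf d = 2) (hq : IsQuasisimple (centralizer ({d} : Set G)))
    [((zpowers d).subgroupOf (centralizer {d})).Normal] {K : Type} [Field K] [Fintype K] (hK : Fintype.card K = 4)
    (e : centralizer {d} ⧸ (zpowers d).subgroupOf (centralizer {d}) ≃* PSU 6 K 2)
    (h : ∃ g : G, g * d * g⁻¹ ∈ centralizer {d} ∧ g * d * g⁻¹ ≠ d) : ∃ R ℓ, Loc R E (M.x 0) ℓ d := by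
  have ha := M.x_mem (j := 0) (by norm_num)
  have := M.finite
  obtain ⟨R, C⟩ := corr22 M ha hd hK e
  obtain ⟨ℓ, L, N⟩ := ns22 M C hq.1
  exact ⟨R, exists_loc C (sys22 M ha) L N h⟩

include M in
theorem loc23 [Finite G] (hd : orderOf d = 2) (hq : IsQuasisimple (centralizer ({d} : Set G)))
    [((zpowers d).subgroupOf (centralizer {d})).Normal]
    (e : centralizer {d} ⧸ (zpowers d).subgroupOf (centralizer {d}) ≃* F)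
    (h : ∃ g : G, g * d * g⁻¹ ∈ centralizer {d} ∧ g * d * g⁻¹ ≠ d) : ∃ R ℓ, Loc R E 1 ℓ d := by
  have := M.finite
  obtain ⟨R, C⟩ := corr_one hd e
  obtain ⟨ℓ, L, N⟩ := ns23 M C hq.1
  exact ⟨R, exists_loc C (sys23 M) L N h⟩

end H80.FI
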